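import Groth.Agent.S0103
import Mathlib.GroupTheory.SpecificGroups.Cyclic

/-!
# Vanishing of cohomology of affine schemes with finite constant `p`-primary coefficients
-/

set_option autoImplicit false
set_option linter.style.haveILetI false

universe u

open CategoryTheory CategoryTheory.Limits AlgebraicGeometry Opposite CategoryTheory.Abelian

namespace Groth.Agent.H18LccSplit

instance (X : Scheme.{u}) : PreservesFiniteLimits (constantSheaf X.smallEtaleTopology AddCommGrpCat.{u + 1}) := by
  unfold constantSheaf
  infer_instance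

instance (X : Scheme.{u}) : PreservesFiniteColimits (constantSheaf X.smallEtaleTopology AddCommGrpCat.{u + 1}) := by
  unfold constantSheaf
  infer_instance

/-- `H^q(X, M) = 0` for `q ≥ 2`, `X` affine of characteristic `p`, `M` finite killed by a power of `p`. -/
theorem subsingleton_H_const (p : ℕ) [Fact p.Prime] (X : Scheme.{u}) [IsAffine X] [CharP Γ(X, ⊤) p]
    (h q : ℕ) (hq : 2 ≤ q) : ∀ (c : ℕ) (M : AddCommGrpCat.{u + 1}) [Finite M], Nat.card M ≤ c →
      (∀ x : M, p ^ h • x = 0) →
      Subsingleton (EtCoh.H X ((constantSheaf X.smallEtaleTopology AddCommGrpCat.{u + 1}).obj M) q) := by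
  intro c
  induction c with
  | zero =>
    intro M _ hc
    have := Nat.card_pos (α := M)
    omega
  | succ c ih =>
    intro M _ hc hM
    classical
    by_cases hs : Subsingleton M
    · have hz : IsZero ((constantSheaf X.smallEtaleTopology AddCommGrpCat.{u + 1}).obj M) :=
        Functor.map_isZero _ (AddCommGrpCat.isZero_of_subsingleton M)
      refine subsingleton_of_forall_eq 0 fun x => ?_
      have hid : x.comp (Ext.mk₀ (𝟙 _)) (add_zero q) = x := Ext.comp_mk₀_id x
      rw [hz.eq_of_src (𝟙 _) 0] at hid
      simpa using hid.symm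
    · rw [not_subsingleton_iff_nontrivial] at hs
      obtain ⟨x, hx⟩ := exists_ne (0 : M)
      have hex : ∃ k, p ^ k • x = 0 := ⟨h, hM x⟩
      have hk : 0 < Nat.find hex := Nat.pos_of_ne_zero fun e => hx (by simpa [e] using Nat.find_spec hex)
      let y : M := p ^ (Nat.find hex - 1) • x
      have hy : p • y = 0 := by
        show p • (p ^ (Nat.find hex - 1) • x) = 0
        rw [← mul_smul, ← pow_succ', Nat.sub_add_cancel hk]
        exact Nat.find_spec hex
      have hy0 : y ≠ 0 := Nat.find_min hex (by omega)
      have hord : addOrderOf y = p := addOrderOf_eq_prime hy hy0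
      let K := AddSubgroup.zmultiples y
      have hK : Nat.card K = p := (Nat.card_zmultiples y).trans hord
      let e₀ : ZMod p ≃+ K := (ZMod.ringEquivCongr hK.symm).toAddEquiv.trans
        (zmodAddCyclicAddEquiv (inferInstance : IsAddCyclic K))
      let S : ShortComplex AddCommGrpCat.{u + 1} := ShortComplex.mk
        (AddCommGrpCat.ofHom (K.subtype.comp (e₀.toAddMonoidHom.comp AddEquiv.ulift.{0, u + 1}.toAddMonoidHom)) :
          AddCommGrpCat.of (ULift.{u + 1} (ZMod p)) ⟶ M)
        (AddCommGrpCat.ofHom (QuotientAddGroup.mk' K) : M ⟶ AddCommGrpCat.of (M ⧸ K))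
        (by ext a; exact (QuotientAddGroup.eq_zero_iff _).2 (e₀ a.down).2)
      have hS : S.ShortExact :=
        { exact := by
            rw [ShortComplex.ab_exact_iff]
            intro m hm
            obtain ⟨a, ha⟩ := e₀.surjective ⟨m, (QuotientAddGroup.eq_zero_iff _).1 hm⟩
            exact ⟨⟨a⟩, congrArg Subtype.val ha⟩
          mono_f := (AddCommGrpCat.mono_iff_injective _).2 fun a b e =>
            ULift.ext _ _ (e₀.injective (Subtype.ext e))
          epi_g := (AddCommGrpCat.epi_iff_surjective _).2 (QuotientAddGroup.mk'_surjective K) }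
      have hS' := hS.map_of_exact (constantSheaf X.smallEtaleTopology AddCommGrpCat.{u + 1})
      have h1 : Subsingleton (EtCoh.H X (S.map (constantSheaf X.smallEtaleTopology AddCommGrpCat.{u + 1})).X₁ q) :=
        Groth.Agent.S0103.result X p q hq
      haveI : Finite (M ⧸ K) := Quotient.finite _
      have h3 : Subsingleton (EtCoh.H X (S.map (constantSheaf X.smallEtaleTopology AddCommGrpCat.{u + 1})).X₃ q) := by
        refine ih (AddCommGrpCat.of (M ⧸ K)) ?_ ?_
        · have := AddSubgroup.card_eq_card_quotient_mul_card_addSubgroup K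
          have hp : 2 ≤ p := (Fact.out : p.Prime).two_le
          have hpos := Nat.card_pos (α := M ⧸ K)
          rw [hK] at this
          show Nat.card (M ⧸ K) ≤ c
          have hle : Nat.card (M ⧸ K) * 2 ≤ Nat.card (M ⧸ K) * p := Nat.mul_le_mul_left _ hp
          omega
        · intro z
          obtain ⟨m, rfl⟩ := QuotientAddGroup.mk'_surjective K z
          show p ^ h • QuotientAddGroup.mk' K m = 0
          rw [← map_nsmul, hM m, map_zero]
      refine subsingleton_of_forall_eq 0 fun z => ?_
      obtain ⟨w, hw⟩ := Ext.covariant_sequence_exact₂ _ hS' z (h3.elim _ _)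
      rw [← hw, h1.elim w 0, Ext.zero_comp]
      rfl

end Groth.Agent.H18LccSplit
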