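import Groth.Agent.H9Et.LccRepresentable
import Groth.Agent.H1DFun.PullConst
import Groth.Agent.H18Et.LC.Specialize

/-!
# Finite locally constant sheaves become constant on a connected finite étale cover
-/

set_option autoImplicit false
set_option linter.style.haveILetI false
set_option backward.isDefEq.respectTransparency false
set_option backward.isDefEq.respectTransparency.types false

universe u

open CategoryTheory CategoryTheory.Limits AlgebraicGeometry Opposite
open Groth.Agent.H18Et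
open scoped Groth.Agent.H18Et

namespace Groth.Agent.H18LccSplit

variable {X : Scheme.{u}}

/-- Morphisms from a connected scheme into a separated unramified one agreeing at a point are equal. -/
theorem eq_of_eq_at_point {Y T : Scheme.{u}} (r : Y ⟶ X) [Etale r] [IsSeparated r] [ConnectedSpace T]
    (a b : T ⟶ Y) (h : a ≫ r = b ≫ r) {P : Scheme.{u}} [Nonempty P] (t : P ⟶ T) (ht : t ≫ a = t ≫ b) :
    a = b := by
  let q : T ⟶ pullback r r := pullback.lift a b h
  haveI : IsOpenImmersion (pullback.fst q (pullback.diagonal r)) := inferInstance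
  haveI : IsClosedImmersion (pullback.fst q (pullback.diagonal r)) := inferInstance
  let e := pullback.fst q (pullback.diagonal r)
  let l : P ⟶ pullback q (pullback.diagonal r) := pullback.lift t (t ≫ a) (by
    refine pullback.hom_ext ?_ ?_
    · rw [Category.assoc, Category.assoc, pullback.lift_fst, pullback.diagonal_fst, Category.comp_id]
    · rw [Category.assoc, Category.assoc, pullback.lift_snd, pullback.diagonal_snd, Category.comp_id, ht])
  haveI : Surjective e := ⟨fun x => by
    have hu : Set.range e = Set.univ :=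
      IsClopen.eq_univ ⟨e.isClosedEmbedding.isClosed_range, e.isOpenEmbedding.isOpen_range⟩
        ⟨_, l (Classical.arbitrary P), rfl⟩
    exact (hu.ge (Set.mem_univ x) : x ∈ Set.range e)⟩
  haveI : IsIso e := IsOpenImmersion.isIso e
  have hd : inv e ≫ pullback.snd q (pullback.diagonal r) ≫ pullback.diagonal r = q := by
    rw [← pullback.condition, IsIso.inv_hom_id_assoc]
  have h1 := congrArg (· ≫ pullback.fst r r) hd
  have h2 := congrArg (· ≫ pullback.snd r r) hd
  simp only [q, Category.assoc, pullback.diagonal_fst, pullback.diagonal_snd, Category.comp_id,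
    pullback.lift_fst, pullback.lift_snd] at h1 h2
  exact h1.symm.trans h2

/-- A point of a finite étale scheme over a connected base has an open and closed connected neighbourhood. -/
theorem exists_connected_clopen {T : Scheme.{u}} (π : T ⟶ X) [IsFinite π] [Etale π] [ConnectedSpace X] (w : T) :
    ∃ C : T.Opens, w ∈ C ∧ IsClosed (C : Set T) ∧ ConnectedSpace (C : Scheme.{u}) := by
  classical
  let x₀ := π w
  have hfin : (π ⁻¹' {x₀}).Finite := π.finite_preimage_singleton x₀
  have hmeet : ∀ C : Set T, IsClopen C → C.Nonempty → (C ∩ π ⁻¹' {x₀}).Nonempty := by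
    intro C hC hne
    have hi : π '' C = Set.univ := IsClopen.eq_univ
      ⟨π.isClosedMap _ hC.1, π.isOpenMap _ hC.2⟩ (hne.image _)
    obtain ⟨c, hc, hcx⟩ := hi.ge (Set.mem_univ x₀)
    exact ⟨c, hc, hcx⟩
  have hex : ∃ m, ∃ C : Set T, IsClopen C ∧ w ∈ C ∧ (C ∩ π ⁻¹' {x₀}).ncard = m :=
    ⟨_, Set.univ, isClopen_univ, trivial, rfl⟩
  obtain ⟨C, hC, hwC, hCn⟩ := Nat.find_spec hex
  refine ⟨⟨C, hC.2⟩, hwC, hC.1, ?_⟩
  refine isConnected_iff_connectedSpace.1 ⟨⟨w, hwC⟩, isPreconnected_closed_iff.2 ?_⟩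
  intro t t' ht ht' hsub hne hne'
  by_contra hcon
  have key : ∀ t t' : Set T, IsClosed t → IsClosed t' → C ⊆ t ∪ t' → ¬(C ∩ (t ∩ t')).Nonempty →
      (C ∩ t').Nonempty → w ∈ t → False := by
    intro t t' ht ht' hsub hcon hne' hwt
    have e1 : C ∩ t = C \ t' := Set.ext fun y =>
      ⟨fun h => ⟨h.1, fun h' => hcon ⟨y, h.1, h.2, h'⟩⟩, fun h => ⟨h.1, (hsub h.1).resolve_right h.2⟩⟩
    have e2 : C ∩ t' = C \ t := Set.ext fun y =>
      ⟨fun h => ⟨h.1, fun h' => hcon ⟨y, h.1, h', h.2⟩⟩, fun h => ⟨h.1, (hsub h.1).resolve_left h.2⟩⟩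
    have hA : IsClopen (C ∩ t) := ⟨hC.1.inter ht, by rw [e1]; exact hC.2.sdiff ht'⟩
    have hB : IsClopen (C ∩ t') := ⟨hC.1.inter ht', by rw [e2]; exact hC.2.sdiff ht⟩
    obtain ⟨b, hb, hbx⟩ := hmeet _ hB hne'
    have hlt : (C ∩ t ∩ π ⁻¹' {x₀}).ncard < (C ∩ π ⁻¹' {x₀}).ncard :=
      Set.ncard_lt_ncard ⟨fun y hy => ⟨hy.1.1, hy.2⟩,
        fun h => hcon ⟨b, hb.1, (h ⟨hb.1, hbx⟩).1.2, hb.2⟩⟩ (hfin.subset Set.inter_subset_right)
    have hle := Nat.find_min' hex ⟨C ∩ t, hA, ⟨hwC, hwt⟩, rfl⟩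
    omega
  rcases hsub hwC with hw | hw
  · exact key t t' ht ht' hsub hcon hne' hw
  · exact key t' t ht' ht (fun y hy => (hsub hy).symm) (fun ⟨y, h1, h2, h3⟩ => hcon ⟨y, h1, h3, h2⟩) hne hw

section Rep

variable {F : EtCoh.Ab X} {UF : X.Etale}
  (α : F.obj ⋙ CategoryTheory.forget AddCommGrpCat.{u + 1} ≅ yoneda.obj UF ⋙ uliftFunctor.{u + 1})

/-- The morphism of a section. -/
noncomputable def toY {W : X.Etale} (s : EtCoh.sect F W) : W ⟶ UF := (α.hom.app (op W) s).down

/-- The tautological section. -/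
noncomputable def taut : EtCoh.sect F UF := α.inv.app (op UF) ⟨𝟙 UF⟩

theorem toY_map {V W : X.Etale} (g : V ⟶ W) (s : EtCoh.sect F W) : toY α (F.obj.map g.op s) = g ≫ toY α s :=
  congrArg ULift.down (NatTrans.naturality_apply α.hom g.op s)

theorem toY_taut : toY α (taut α) = 𝟙 UF :=
  congrArg ULift.down (congrArg (fun k : (yoneda.obj UF ⋙ uliftFunctor.{u + 1}) ⟶ (yoneda.obj UF ⋙ uliftFunctor.{u + 1}) =>
    k.app (op UF) (ULift.up (𝟙 UF))) α.inv_hom_id)

theorem toY_injective {W : X.Etale} : Function.Injective (toY α (W := W)) := fun s t h => by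
  have hinj : Function.Injective (α.hom.app (op W)) :=
    Function.LeftInverse.injective (g := α.inv.app (op W))
      fun x => congrArg (fun k => k.app (op W) x) α.hom_inv_id
  exact hinj (ULift.ext _ _ h)

theorem eq_map_taut {W : X.Etale} (s : EtCoh.sect F W) : F.obj.map (toY α s).op (taut α) = s :=
  toY_injective α (by rw [toY_map, toY_taut, Category.comp_id])

variable {Ω : Type u} [Field Ω] [IsSepClosed Ω] (ξ : Spec (CommRingCat.of Ω) ⟶ X)

theorem germ_eq_germ_taut {W : X.Etale} (x : (Scheme.pointSmallEtale ξ).fiber.obj W) (s : EtCoh.sect F W) :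
    germ ξ F W x s = germ ξ F UF ((Scheme.pointSmallEtale ξ).fiber.map (toY α s) x) (taut α) := by
  conv_lhs => rw [← eq_map_taut α s]
  exact (Scheme.pointSmallEtale ξ).toPresheafFiber_w_apply (toY α s) x F.obj (taut α)

include α in
/-- Germs are injective on connected objects. -/
theorem germ_injective [IsFinite UF.hom] {W : X.Etale} [ConnectedSpace W.left]
    (x : (Scheme.pointSmallEtale ξ).fiber.obj W) : Function.Injective fun s => germ ξ F W x s := by
  intro s t hst
  obtain ⟨V, g, y, hy, hg⟩ := (germ_eq_iff ξ F W x s t).1 hst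
  have h1 : g ≫ toY α s = g ≫ toY α t := by rw [← toY_map, ← toY_map, hg]
  haveI := UF.prop
  let sY : W.left ⟶ UF.left := (toY α s).left
  let tY : W.left ⟶ UF.left := (toY α t).left
  have hw : sY ≫ UF.hom = tY ≫ UF.hom :=
    (Over.w (toY α s).hom).trans (Over.w (toY α t).hom).symm
  haveI : Nonempty (Spec (CommRingCat.of Ω)) := ⟨(default : PrimeSpectrum Ω)⟩
  refine toY_injective α (MorphismProperty.Over.Hom.ext
    (eq_of_eq_at_point (T := W.left) (Y := UF.left) (P := Spec (CommRingCat.of Ω)) UF.hom sY tY hw (y.left ≫ g.left) ?_))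
  rw [Category.assoc, Category.assoc]
  exact congrArg (y.left ≫ ·) (congrArg (fun k : V ⟶ UF => k.left) h1)

end Rep

theorem finite_stalk (F : EtCoh.Ab X) (hF : EtCoh.IsFiniteLocallyConstant F) (Ω : Type u) [Field Ω]
    [IsSepClosed Ω] (ξ : Spec (CommRingCat.of Ω) ⟶ X) : Finite ((EtCoh.stalk ξ).obj F) := by
  obtain ⟨ι, U, hU, hM⟩ := (LC.isFiniteLocallyConstant_iff F).1 hF
  obtain ⟨i, u, hu⟩ := hU (ξ.base default)
  obtain ⟨z, -⟩ := exists_fiber_over u ξ hu.symm
  obtain ⟨M, hfin, c, hc⟩ := hM i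
  haveI := hfin
  exact Finite.of_surjective _ (hc.bijective ξ z).2

/-- A finite locally constant sheaf becomes constant on a connected finite étale cover. -/
theorem exists_connected_split [ConnectedSpace X] (F : EtCoh.Ab X) (hF : EtCoh.IsFiniteLocallyConstant F) :
    ∃ (W : X.Etale) (_ : IsFinite W.hom) (_ : Surjective W.hom) (_ : ConnectedSpace W.left),
      Finite (EtCoh.sect F W) ∧
      Nonempty ((EtCoh.pull W.hom).obj F ≅
        (constantSheaf W.left.smallEtaleTopology AddCommGrpCat.{u + 1}).obj (F.obj.obj (op W))) := by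
  classical
  obtain ⟨UF, hUF, ⟨α⟩⟩ := H9Et.LccRep.exists_representable_of_isFiniteLocallyConstant F hF
  haveI := hUF
  obtain ⟨x₀⟩ : Nonempty X := ConnectedSpace.toNonempty
  let ξ₀ := geomPt x₀
  haveI : IsSepClosed (SeparableClosure (X.residueField x₀)) := SeparableClosure.isSepClosed _
  haveI := finite_stalk F hF _ ξ₀
  let C : Type (u + 1) := {W : X.Etale // IsFinite W.hom ∧ ConnectedSpace W.left}
  have hsurjW : ∀ W : C, Surjective W.1.hom := fun W => by
    haveI := W.2.1; haveI := W.2.2; haveI := W.1.prop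
    let h : W.1.left ⟶ X := W.1.hom
    refine ⟨fun x => ?_⟩
    have hu : Set.range h = Set.univ := IsClopen.eq_univ
      ⟨h.isClosedMap.isClosed_range, h.isOpenMap.isOpen_range⟩ ⟨_, Classical.arbitrary W.1.left, rfl⟩
    exact (hu.ge (Set.mem_univ x) : x ∈ Set.range h)
  have hpt : ∀ W : C, ∃ z : (Scheme.pointSmallEtale ξ₀).fiber.obj W.1, True := fun W => by
    obtain ⟨w, hw⟩ := (hsurjW W).surj x₀
    obtain ⟨z, -⟩ := exists_fiber_over w ξ₀ ((geomPt_base x₀).trans hw.symm)
    exact ⟨z, trivial⟩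
  choose z _ using hpt
  have hfinW : ∀ W : C, Finite (EtCoh.sect F W.1) := fun W => by
    haveI := W.2.2
    exact Finite.of_injective _ (germ_injective α ξ₀ (z W))
  have hbd : ∀ W : C, Nat.card (EtCoh.sect F W.1) ≤ Nat.card ((EtCoh.stalk ξ₀).obj F) := fun W => by
    haveI := W.2.2
    exact Nat.card_le_card_of_injective _ (germ_injective α ξ₀ (z W))
  have htop : IsFinite (EtCoh.top X).hom ∧ ConnectedSpace (EtCoh.top X).left :=
    ⟨inferInstanceAs (IsFinite (𝟙 X)), inferInstanceAs (ConnectedSpace X)⟩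
  let S : Set ℕ := Set.range fun W : C => Nat.card (EtCoh.sect F W.1)
  have hS : S.Finite := (Set.finite_Iic (Nat.card ((EtCoh.stalk ξ₀).obj F))).subset (by
    rintro _ ⟨W, rfl⟩; exact hbd W)
  obtain ⟨_, ⟨W, rfl⟩, hmax⟩ := hS.exists_maximal ⟨_, ⟨⟨EtCoh.top X, htop⟩, rfl⟩⟩
  haveI := W.2.1; haveI := W.2.2; haveI := W.1.prop
  haveI := hfinW W
  refine ⟨W.1, W.2.1, hsurjW W, W.2.2, hfinW W, H1DFun.nonempty_pull_iso_const_of_isConstOn W.1 (c := 𝟙 _)
    (LC.isConstOn_of_bijective fun Ω _ _ ξ x => ⟨germ_injective α ξ x, fun σ => ?_⟩)⟩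
  obtain ⟨V, v, s, rfl⟩ := germ_surjective ξ F σ
  let zY := (Scheme.pointSmallEtale ξ).fiber.map (toY α s) v
  haveI := UF.prop
  let r : UF.left ⟶ X := UF.hom
  let h : W.1.left ⟶ X := W.1.hom
  let P := pullback r h
  let p : P ⟶ W.1.left := pullback.snd r h
  haveI : IsFinite r := hUF
  haveI : Etale r := UF.prop
  haveI : IsFinite p := MorphismProperty.pullback_snd (P := @IsFinite) _ _ inferInstance
  haveI : Etale p := MorphismProperty.pullback_snd (P := @Etale) _ _ inferInstance
  let l : Spec (CommRingCat.of Ω) ⟶ P := pullback.lift zY.left x.left ((Over.w zY).trans (Over.w x).symm)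
  obtain ⟨O, hO, hOc, hOconn⟩ := exists_connected_clopen p (l default)
  haveI : IsClosedImmersion O.ι := IsClosedImmersion.of_isPreimmersion O.ι (by rw [O.range_ι]; exact hOc)
  haveI : Etale (O.ι ≫ p ≫ h) := inferInstance
  let W' : X.Etale := Scheme.Etale.mk (O.ι ≫ p ≫ h)
  have hW' : IsFinite W'.hom ∧ ConnectedSpace W'.left :=
    ⟨inferInstanceAs (IsFinite (O.ι ≫ p ≫ h)), hOconn⟩
  haveI := hfinW ⟨W', hW'⟩
  haveI : ConnectedSpace W'.left := hOconn
  let ρ : W' ⟶ W.1 := MorphismProperty.Over.homMk (O.ι ≫ p) (Category.assoc _ _ _) trivial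
  let πY : W' ⟶ UF := MorphismProperty.Over.homMk (O.ι ≫ pullback.fst r h) (by
    show (O.ι ≫ pullback.fst r h) ≫ r = O.ι ≫ p ≫ h
    rw [Category.assoc, pullback.condition]) trivial
  haveI : Subsingleton ↥(Spec (CommRingCat.of Ω)) := inferInstanceAs (Subsingleton (PrimeSpectrum Ω))
  let lO : Spec (CommRingCat.of Ω) ⟶ (O : Scheme.{u}) := IsOpenImmersion.lift O.ι l (by
    rw [O.range_ι]
    rintro _ ⟨a, rfl⟩
    rw [Subsingleton.elim a default]
    exact hO)
  let y : (Scheme.pointSmallEtale ξ).fiber.obj W' := Over.homMk lO (by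
    show lO ≫ O.ι ≫ p ≫ h = ξ
    rw [← Category.assoc, IsOpenImmersion.lift_fac, ← Category.assoc]
    exact (congrArg (· ≫ h) (pullback.lift_snd _ _ _)).trans (Over.w x))
  have hy1 : (Scheme.pointSmallEtale ξ).fiber.map ρ y = x := by
    refine Over.OverMorphism.ext ?_
    show lO ≫ O.ι ≫ p = x.left
    rw [← Category.assoc, IsOpenImmersion.lift_fac]
    exact pullback.lift_snd _ _ _
  have hy2 : (Scheme.pointSmallEtale ξ).fiber.map πY y = zY := by
    refine Over.OverMorphism.ext ?_
    show lO ≫ O.ι ≫ pullback.fst r h = zY.left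
    rw [← Category.assoc, IsOpenImmersion.lift_fac]
    exact pullback.lift_fst _ _ _
  let res : EtCoh.sect F W.1 → EtCoh.sect F W' := fun t => F.obj.map ρ.op t
  have hres : Function.Injective res := fun t t' e => by
    refine germ_injective α ξ x ?_
    have e' := congrArg (fun q => germ ξ F W' y q) e
    simp only [res] at e'
    erw [(Scheme.pointSmallEtale ξ).toPresheafFiber_w_apply ρ y F.obj t,
      (Scheme.pointSmallEtale ξ).toPresheafFiber_w_apply ρ y F.obj t'] at e'
    rw [hy1] at e'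
    exact e'
  have hbij : Function.Bijective res := hres.bijective_of_nat_card_le
    (hmax ⟨⟨W', hW'⟩, rfl⟩ (Nat.card_le_card_of_injective _ hres))
  obtain ⟨t, ht⟩ := hbij.2 (F.obj.map πY.op (taut α))
  refine ⟨t, ?_⟩
  show germ ξ F W.1 x t = germ ξ F V v s
  rw [germ_eq_germ_taut α ξ v s, ← hy1]
  refine (((Scheme.pointSmallEtale ξ).toPresheafFiber_w_apply ρ y F.obj t).symm.trans
    ((congrArg (germ ξ F W' y) ht).trans ((Scheme.pointSmallEtale ξ).toPresheafFiber_w_apply πY y F.obj _))).trans ?_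
  rw [hy2]
  rfl

end Groth.Agent.H18LccSplit
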